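import Mathlib
import Cfsg.Agent.PLocal.LocalConstraint

/-!
# `p`-length

`IsPSeries p W` : a normal series whose steps are alternately `p'` and `p`.  The upper `p`-series
dominates every such series (`le_upperPSeries`), so `PLengthLE` is equivalent to the existence of
such a series of length `2k+1` reaching `⊤`.
-/

set_option autoImplicit false

open Cfsg CfsgLib.PLocal

namespace CfsgLib.PLength

variable {p : ℕ} {G : Type*} [Group G] {H : Type*} [Group H]

/-- A normal series starting at `⊥` whose steps are alternately of order prime to `p` and a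
power of `p`. -/
structure IsPSeries (p : ℕ) (W : ℕ → Subgroup G) : Prop where
  zero : W 0 = ⊥
  normal : ∀ i, (W i).Normal
  mono : ∀ i, W i ≤ W (i + 1)
  coprime : ∀ i, Even i → ((W i).relIndex (W (i + 1))).Coprime p
  ppow : ∀ i, ¬ Even i → ∃ m, (W i).relIndex (W (i + 1)) = p ^ m

theorem map_le_core_of_dvd [Finite G] [Fact p.Prime] (U : Subgroup G) [U.Normal] (V : Subgroup G)
    [V.Normal] :
    ((U.relIndex V).Coprime p → V ≤ (pPrimeCore p (G ⧸ U)).comap (QuotientGroup.mk' U)) ∧
      ((∃ m, U.relIndex V = p ^ m) → V ≤ (pCore p (G ⧸ U)).comap (QuotientGroup.mk' U)) := by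
  have hn : (V.map (QuotientGroup.mk' U)).Normal :=
    Subgroup.Normal.map inferInstance _ (QuotientGroup.mk'_surjective U)
  have hc : Nat.card (V.map (QuotientGroup.mk' U)) = U.relIndex V := by
    rw [← Subgroup.relIndex_ker (K := V), QuotientGroup.ker_mk']
  constructor
  · intro h
    rw [← Subgroup.map_le_iff_le_comap]
    exact le_pPrimeCore (by rwa [hc])
  · rintro ⟨m, hm⟩
    rw [← Subgroup.map_le_iff_le_comap]
    exact CfsgLib.PLocal.le_pCore (IsPGroup.of_card (n := m) (by rw [hc, hm]))

theorem le_upperPSeries [Finite G] [hp : Fact p.Prime] {W : ℕ → Subgroup G} (hW : IsPSeries p W) :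
    ∀ n, W n ≤ (upperPSeries p G n).1 := by
  intro n
  induction n with
  | zero => exact hW.zero.le.trans bot_le
  | succ n ih =>
    have := hW.normal (n + 1)
    have hd : (upperPSeries p G n).1.relIndex (W (n + 1)) ∣ (W n).relIndex (W (n + 1)) :=
      Subgroup.relIndex_dvd_of_le_left _ ih
    by_cases hn : Even n
    · obtain ⟨k, rfl⟩ := hn
      rw [← two_mul] at *
      rw [upperPSeries_odd_eq]
      exact (map_le_core_of_dvd _ _).1
        ((hW.coprime _ (even_two_mul k)).coprime_dvd_left hd)
    · obtain ⟨k, rfl⟩ := Nat.not_even_iff_odd.1 hn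
      show W (2 * k + 2) ≤ _
      rw [upperPSeries_even_eq]
      obtain ⟨m, hm⟩ := hW.ppow _ hn
      obtain ⟨j, -, hj⟩ := (Nat.dvd_prime_pow hp.out).1 (hm ▸ hd)
      exact (map_le_core_of_dvd _ _).2 ⟨j, hj⟩

theorem relIndex_comap_mk' (U : Subgroup G) [U.Normal] (A : Subgroup (G ⧸ U)) :
    U.relIndex (A.comap (QuotientGroup.mk' U)) = Nat.card A := by
  have h := relIndex_comap_of_surjective (QuotientGroup.mk'_surjective U) ⊥ A
  rwa [MonoidHom.comap_bot, QuotientGroup.ker_mk', Subgroup.relIndex_bot_left] at h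

theorem isPSeries_upperPSeries (p : ℕ) [Fact p.Prime] (G : Type*) [Group G] [Finite G] :
    IsPSeries p (fun n => (upperPSeries p G n).1) where
  zero := by simp [upperPSeries]
  normal i := (upperPSeries p G i).2
  mono := le_upperPSeries_succ p G
  coprime i hi := by
    obtain ⟨k, rfl⟩ := hi
    rw [← two_mul]
    show ((upperPSeries p G (2 * k)).1.relIndex (upperPSeries p G (2 * k + 1)).1).Coprime p
    rw [upperPSeries_odd_eq, relIndex_comap_mk']
    exact coprime_card_pPrimeCore p _
  ppow i hi := by
    obtain ⟨k, rfl⟩ := Nat.not_even_iff_odd.1 hi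
    show ∃ m, (upperPSeries p G (2 * k + 1)).1.relIndex (upperPSeries p G (2 * k + 2)).1 = p ^ m
    rw [upperPSeries_even_eq, relIndex_comap_mk']
    exact IsPGroup.iff_card.1 (CfsgLib.PLocal.isPGroup_pCore p _)

theorem pLengthLE_of_series [Finite G] [Fact p.Prime] {W : ℕ → Subgroup G} (hW : IsPSeries p W)
    {k : ℕ} (h : W (2 * k + 1) = ⊤) : PLengthLE p k G :=
  top_le_iff.1 (h ▸ le_upperPSeries hW _)

theorem exists_series [Finite G] [Fact p.Prime] {k : ℕ} (h : PLengthLE p k G) :
    ∃ W : ℕ → Subgroup G, IsPSeries p W ∧ W (2 * k + 1) = ⊤ :=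
  ⟨_, isPSeries_upperPSeries p G, h⟩

theorem IsPSeries.map [Finite G] [hp : Fact p.Prime] {W : ℕ → Subgroup G} (hW : IsPSeries p W)
    {f : G →* H} (hf : Function.Surjective f) : IsPSeries p (fun i => (W i).map f) where
  zero := by rw [hW.zero, Subgroup.map_bot]
  normal i := (hW.normal i).map f hf
  mono i := Subgroup.map_mono (hW.mono i)
  coprime i hi := by
    have := hW.normal i
    exact (hW.coprime i hi).coprime_dvd_left (relIndex_map_dvd f _ _)
  ppow i hi := by
    have := hW.normal i
    obtain ⟨m, hm⟩ := hW.ppow i hi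
    obtain ⟨j, -, hj⟩ := (Nat.dvd_prime_pow hp.out).1 (hm ▸ relIndex_map_dvd f (W i) (W (i + 1)))
    exact ⟨j, hj⟩

theorem IsPSeries.subgroupOf [hp : Fact p.Prime] {W : ℕ → Subgroup G} (hW : IsPSeries p W)
    (K : Subgroup G) : IsPSeries p (fun i => (W i).subgroupOf K) := by
  have hd : ∀ i, ((W i).subgroupOf K).relIndex ((W (i + 1)).subgroupOf K) ∣
      (W i).relIndex (W (i + 1)) := by
    intro i
    have := hW.normal i
    show ((W i).comap K.subtype).relIndex _ ∣ _
    rw [Subgroup.relIndex_comap]
    exact relIndex_dvd_of_le_right_of_normal _ (Subgroup.map_comap_le _ _)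
  refine ⟨?_, fun i => (hW.normal i).comap _, fun i => Subgroup.comap_mono (hW.mono i),
    fun i hi => (hW.coprime i hi).coprime_dvd_left (hd i), fun i hi => ?_⟩
  · show (W 0).subgroupOf K = ⊥
    rw [hW.zero, Subgroup.bot_subgroupOf]
  · obtain ⟨m, hm⟩ := hW.ppow i hi
    obtain ⟨j, -, hj⟩ := (Nat.dvd_prime_pow hp.out).1 (hm ▸ hd i)
    exact ⟨j, hj⟩

theorem upperPSeries_monotone (p : ℕ) (G : Type*) [Group G] :
    Monotone (fun n => (upperPSeries p G n).1) :=
  monotone_nat_of_le_succ (le_upperPSeries_succ p G)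

theorem pLengthLE_mono {k l : ℕ} (hkl : k ≤ l) (h : PLengthLE p k G) : PLengthLE p l G :=
  top_le_iff.1 (h.symm.le.trans (upperPSeries_monotone p G (by omega)))

theorem pLengthLE_of_surjective [Finite G] [Finite H] [Fact p.Prime] {k : ℕ}
    (h : PLengthLE p k G) {f : G →* H} (hf : Function.Surjective f) : PLengthLE p k H := by
  obtain ⟨W, hW, ht⟩ := exists_series h
  exact pLengthLE_of_series (hW.map hf) (by show (W _).map f = ⊤; rw [ht, Subgroup.map_top_of_surjective f hf])

theorem pLengthLE_quotient [Finite G] [Fact p.Prime] {k : ℕ} (h : PLengthLE p k G)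
    (N : Subgroup G) [N.Normal] : PLengthLE p k (G ⧸ N) :=
  pLengthLE_of_surjective h (QuotientGroup.mk'_surjective N)

theorem pLengthLE_subgroup [Finite G] [Fact p.Prime] {k : ℕ} (h : PLengthLE p k G)
    (K : Subgroup G) : PLengthLE p k K := by
  obtain ⟨W, hW, ht⟩ := exists_series h
  exact pLengthLE_of_series (hW.subgroupOf K) (by show (W _).subgroupOf K = ⊤; rw [ht, Subgroup.top_subgroupOf])

theorem pLengthLE_congr [Finite G] [Finite H] [Fact p.Prime] {k : ℕ} (e : G ≃* H)
    (h : PLengthLE p k G) : PLengthLE p k H :=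
  pLengthLE_of_surjective (f := e.toMonoidHom) h e.surjective

/-- The terms of the upper `p`-series are characteristic. -/
theorem upperPSeries_characteristic [Finite G] [Fact p.Prime] (n : ℕ) :
    (upperPSeries p G n).1.Characteristic :=
  Subgroup.characteristic_iff_map_le.2 fun e =>
    le_upperPSeries ((isPSeries_upperPSeries p G).map (f := e.toMonoidHom) e.surjective) n

theorem pLengthLE_zero_iff [Finite G] [Fact p.Prime] :
    PLengthLE p 0 G ↔ (Nat.card G).Coprime p := by
  constructor
  · intro h
    have h1 := (isPSeries_upperPSeries p G).coprime 0 Even.zero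
    have h0 : (upperPSeries p G 0).1 = ⊥ := (isPSeries_upperPSeries p G).zero
    have ht : (upperPSeries p G (0 + 1)).1 = ⊤ := h
    simp only [h0, ht, Subgroup.relIndex_top_right, Subgroup.index_bot] at h1
    exact h1
  · intro h
    refine pLengthLE_of_series (W := fun i => if i = 0 then ⊥ else ⊤) ⟨by simp, fun i => ?_,
      fun i => ?_, fun i _ => ?_, fun i hi => ?_⟩ (by simp)
    · split_ifs <;> infer_instance
    · simp
    · by_cases hi : i = 0
      · subst hi
        simpa using h
      · simp [hi]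
    · refine ⟨0, ?_⟩
      have : i ≠ 0 := by rintro rfl; exact hi Even.zero
      simp [this]

theorem pLengthLE_one_of_isPGroup [Finite G] [hp : Fact p.Prime] (h : IsPGroup p G) :
    PLengthLE p 1 G := by
  refine pLengthLE_of_series (W := fun i => if i ≤ 1 then ⊥ else ⊤) ⟨by simp, fun i => ?_,
    fun i => ?_, fun i hi => ?_, fun i hi => ?_⟩ (by simp)
  · split_ifs <;> infer_instance
  · by_cases h1 : i + 1 ≤ 1
    · simp [show i ≤ 1 by omega, h1]
    · simp [h1]
  · by_cases h1 : i ≤ 1
    · have : i = 0 := by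
        rcases hi with ⟨c, rfl⟩
        omega
      subst this
      simp
    · simp [h1, show ¬ i + 1 ≤ 1 by omega]
  · by_cases h1 : i ≤ 1
    · have : i = 1 := by
        rcases Nat.not_even_iff_odd.1 hi with ⟨c, rfl⟩
        omega
      subst this
      obtain ⟨m, hm⟩ := IsPGroup.iff_card.1 h
      exact ⟨m, by simp [hm]⟩
    · exact ⟨0, by simp [h1, show ¬ i + 1 ≤ 1 by omega]⟩

/-- `p`-length is subadditive in extensions. -/
theorem pLengthLE_extension [Finite G] [hp : Fact p.Prime] (N : Subgroup G) [hNn : N.Normal]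
    {a b : ℕ} (hN : PLengthLE p a N) (hQ : PLengthLE p b (G ⧸ N)) : PLengthLE p (a + b) G := by
  let A : ℕ → Subgroup G := fun i => (upperPSeries p N i).1.map N.subtype
  let B : ℕ → Subgroup G := fun i => (upperPSeries p (G ⧸ N) i).1.comap (QuotientGroup.mk' N)
  have hAn : ∀ i, (A i).Normal := fun i =>
    haveI := upperPSeries_characteristic (p := p) (G := N) i
    ConjAct.normal_of_characteristic_of_normal
  have hAN : ∀ i, A i ≤ N := fun i => Subgroup.map_subtype_le _
  have hNB : ∀ i, N ≤ B i := fun i => by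
    intro x hx
    show QuotientGroup.mk' N x ∈ (upperPSeries p (G ⧸ N) i).1
    rw [QuotientGroup.mk'_apply, (QuotientGroup.eq_one_iff x).2 hx]
    exact one_mem _
  have hAtop : A (2 * a + 1) = N := by
    show (upperPSeries p N (2 * a + 1)).1.map N.subtype = N
    rw [hN, ← MonoidHom.range_eq_map, Subgroup.range_subtype]
  have hAind : ∀ i, (A i).relIndex (A (i + 1)) =
      (upperPSeries p N i).1.relIndex (upperPSeries p N (i + 1)).1 := fun i =>
    Subgroup.relIndex_map_map_of_injective _ _ N.subtype_injective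
  have hBind : ∀ i, (B i).relIndex (B (i + 1)) =
      (upperPSeries p (G ⧸ N) i).1.relIndex (upperPSeries p (G ⧸ N) (i + 1)).1 := fun i =>
    relIndex_comap_of_surjective (QuotientGroup.mk'_surjective N) _ _
  have hB0 : B 0 = N := by
    show (upperPSeries p (G ⧸ N) 0).1.comap _ = N
    rw [(isPSeries_upperPSeries p (G ⧸ N)).zero, MonoidHom.comap_bot, QuotientGroup.ker_mk']
  have hS := isPSeries_upperPSeries p N
  have hT := isPSeries_upperPSeries p (G ⧸ N)
  refine pLengthLE_of_series (W := fun i => if i ≤ 2 * a then A i else B (i - 2 * a))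
    ⟨?_, fun i => ?_, fun i => ?_, fun i hi => ?_, fun i hi => ?_⟩ ?_
  · simp [A, upperPSeries]
  · split_ifs
    · exact hAn i
    · exact (upperPSeries p (G ⧸ N) _).2.comap _
  · rcases lt_trichotomy i (2 * a) with h | h | h
    · simp only [if_pos h.le, if_pos (show i + 1 ≤ 2 * a by omega)]
      exact Subgroup.map_mono (hS.mono i)
    · subst h
      simp only [if_pos le_rfl, if_neg (show ¬ 2 * a + 1 ≤ 2 * a by omega)]
      exact (hAN _).trans (hNB _)
    · simp only [if_neg (show ¬ i ≤ 2 * a by omega), if_neg (show ¬ i + 1 ≤ 2 * a by omega),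
        show i + 1 - 2 * a = i - 2 * a + 1 by omega]
      exact Subgroup.comap_mono (hT.mono _)
  · rcases lt_trichotomy i (2 * a) with h | h | h
    · simp only [if_pos h.le, if_pos (show i + 1 ≤ 2 * a by omega), hAind]
      exact hS.coprime i hi
    · subst h
      simp only [if_pos le_rfl, if_neg (show ¬ 2 * a + 1 ≤ 2 * a by omega),
        show 2 * a + 1 - 2 * a = 0 + 1 by omega]
      have h1 : (A (2 * a)).relIndex N * N.relIndex (B (0 + 1)) = (A (2 * a)).relIndex (B (0 + 1)) :=
        Subgroup.relIndex_mul_relIndex _ _ _ (hAN _) (hNB _)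
      rw [← h1]
      refine Nat.Coprime.mul_left ?_ ?_
      · have := hAind (2 * a)
        rw [hAtop] at this
        rw [this]
        exact hS.coprime _ hi
      · rw [← hB0, hBind]
        exact hT.coprime 0 Even.zero
    · simp only [if_neg (show ¬ i ≤ 2 * a by omega), if_neg (show ¬ i + 1 ≤ 2 * a by omega),
        show i + 1 - 2 * a = i - 2 * a + 1 by omega, hBind]
      exact hT.coprime _ ((Nat.even_sub (by omega)).2 (by simp [hi]))
  · rcases lt_trichotomy i (2 * a) with h | h | h
    · simp only [if_pos h.le, if_pos (show i + 1 ≤ 2 * a by omega), hAind]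
      exact hS.ppow i hi
    · exact absurd (h ▸ even_two_mul a) hi
    · simp only [if_neg (show ¬ i ≤ 2 * a by omega), if_neg (show ¬ i + 1 ≤ 2 * a by omega),
        show i + 1 - 2 * a = i - 2 * a + 1 by omega, hBind]
      refine hT.ppow _ ?_
      rw [Nat.even_sub (by omega)]
      simp [hi]
  · simp only [if_neg (show ¬ 2 * (a + b) + 1 ≤ 2 * a by omega),
      show 2 * (a + b) + 1 - 2 * a = 2 * b + 1 by omega]
    show (upperPSeries p (G ⧸ N) (2 * b + 1)).1.comap _ = ⊤
    rw [hQ, Subgroup.comap_top]

/-- Removing `O_{p',p}` lowers the `p`-length by one. -/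
theorem pLengthLE_quotient_two [Finite G] [Fact p.Prime] {k : ℕ} (h : PLengthLE p (k + 1) G) :
    PLengthLE p k (G ⧸ (upperPSeries p G 2).1) := by
  have hS := isPSeries_upperPSeries p G
  have hm := hS.map (f := QuotientGroup.mk' (upperPSeries p G 2).1) (QuotientGroup.mk'_surjective _)
  refine pLengthLE_of_series
    (W := fun i => (upperPSeries p G (i + 2)).1.map (QuotientGroup.mk' (upperPSeries p G 2).1))
    ⟨?_, fun i => hm.normal _, fun i => hm.mono _, fun i hi => ?_, fun i hi => ?_⟩ ?_
  · show (upperPSeries p G 2).1.map _ = ⊥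
    rw [Subgroup.map_eq_bot_iff, QuotientGroup.ker_mk']
  · exact hm.coprime (i + 2) (by simp [Nat.even_add, hi])
  · exact hm.ppow (i + 2) (by simp [Nat.even_add, hi])
  · show (upperPSeries p G (2 * (k + 1) + 1)).1.map _ = ⊤
    rw [h, Subgroup.map_top_of_surjective _ (QuotientGroup.mk'_surjective _)]

theorem upperPSeries_one (p : ℕ) [Fact p.Prime] (G : Type*) [Group G] [Finite G] :
    (upperPSeries p G 1).1 = pPrimeCore p G := by
  have hS := isPSeries_upperPSeries p G
  refine le_antisymm ?_ ?_
  · have := (upperPSeries p G 1).2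
    refine le_pPrimeCore ?_
    have h := hS.coprime 0 Even.zero
    simp only [hS.zero, zero_add, Subgroup.relIndex_bot_left] at h
    exact h
  · have hW : IsPSeries p (fun i => if i = 0 then ⊥ else pPrimeCore p G) := by
      refine ⟨by simp, fun i => ?_, fun i => ?_, fun i hi => ?_, fun i hi => ?_⟩
      · split_ifs <;> infer_instance
      · by_cases h : i = 0 <;> simp [h]
      · by_cases h : i = 0
        · simpa [h] using coprime_card_pPrimeCore p G
        · simp [h]
      · refine ⟨0, ?_⟩
        have : i ≠ 0 := by rintro rfl; exact hi Even.zero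
        simp [this]
    exact le_upperPSeries hW 1

theorem upperPSeries_two_le_pCore [Finite G] [Fact p.Prime] (h : pPrimeCore p G = ⊥) :
    (upperPSeries p G 2).1 = pCore p G := by
  have hS := isPSeries_upperPSeries p G
  refine le_antisymm ?_ ?_
  · have := (upperPSeries p G 2).2
    refine CfsgLib.PLocal.le_pCore ?_
    obtain ⟨m, hm⟩ := hS.ppow 1 (by decide)
    simp only [upperPSeries_one, h, show (1 + 1 : ℕ) = 2 from rfl, Subgroup.relIndex_bot_left] at hm
    exact IsPGroup.of_card hm
  · have hW : IsPSeries p (fun i => if i ≤ 1 then ⊥ else pCore p G) := by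
      refine ⟨by simp, fun i => ?_, fun i => ?_, fun i hi => ?_, fun i hi => ?_⟩
      · split_ifs <;> infer_instance
      · by_cases h1 : i + 1 ≤ 1
        · simp [show i ≤ 1 by omega, h1]
        · by_cases h2 : i ≤ 1 <;> simp [h1, h2]
      · by_cases h1 : i ≤ 1
        · have : i = 0 := by
            rcases hi with ⟨c, rfl⟩
            omega
          subst this
          simp
        · simp [h1, show ¬ i + 1 ≤ 1 by omega]
      · by_cases h1 : i ≤ 1
        · have : i = 1 := by
            rcases Nat.not_even_iff_odd.1 hi with ⟨c, rfl⟩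
            omega
          subst this
          obtain ⟨m, hm⟩ := IsPGroup.iff_card.1 (CfsgLib.PLocal.isPGroup_pCore p G)
          exact ⟨m, by simp [hm]⟩
        · exact ⟨0, by simp [h1, show ¬ i + 1 ≤ 1 by omega]⟩
    exact le_upperPSeries hW 2

/-- If `O_{p'}(G) = 1`, then `G / O_p(G)` has smaller `p`-length. -/
theorem pLengthLE_quotient_pCore [Finite G] [Fact p.Prime] (h0 : pPrimeCore p G = ⊥) {k : ℕ}
    (h : PLengthLE p (k + 1) G) : PLengthLE p k (G ⧸ pCore p G) :=
  pLengthLE_congr (QuotientGroup.quotientMulEquivOfEq (upperPSeries_two_le_pCore h0))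
    (pLengthLE_quotient_two h)

end CfsgLib.PLength
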